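import Mathlib

/-!
Isomorphisms of Sylow 2-subgroups from matched generators.
-/

set_option autoImplicit false

namespace Cfsg.Agent.Lib.SylowTwoPairs

variable {A B G : Type*} [Group A] [Group B] [Group G]

theorem map_closure_list (f : A →* G) (gs : List A) :
    (Subgroup.closure {g | g ∈ gs}).map f = Subgroup.closure {g | g ∈ gs.map f} := by
  rw [MonoidHom.map_closure]
  congr 1
  ext g
  simp [List.mem_map]

theorem card_closure_map {f : A →* G} (hf : Function.Injective f) (gs : List A) :
    Nat.card (Subgroup.closure {g | g ∈ gs.map f}) = Nat.card (Subgroup.closure {g | g ∈ gs}) := by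
  rw [← map_closure_list]
  exact Subgroup.card_map_of_injective hf

/-- Matched generators with a joint closure of the common order give an isomorphism. -/
theorem nonempty_equiv_of_pairs [Finite A] [Finite B] (ps : List (A × B)) {N : ℕ}
    (hp : Nat.card (Subgroup.closure {g | g ∈ ps}) = N)
    (ha : Nat.card (Subgroup.closure {g | g ∈ ps.map (MonoidHom.fst A B)}) = N)
    (hb : Nat.card (Subgroup.closure {g | g ∈ ps.map (MonoidHom.snd A B)}) = N) :
    Nonempty (Subgroup.closure {g | g ∈ ps.map (MonoidHom.fst A B)} ≃*
      Subgroup.closure {g | g ∈ ps.map (MonoidHom.snd A B)}) := by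
  set K := Subgroup.closure {g | g ∈ ps} with hK
  have h1 : Function.Bijective ((MonoidHom.fst A B).subgroupMap K) :=
    ((MonoidHom.fst A B).subgroupMap_surjective K).bijective_of_nat_card_le (by
      rw [hK, map_closure_list, ha, hp])
  have h2 : Function.Bijective ((MonoidHom.snd A B).subgroupMap K) :=
    ((MonoidHom.snd A B).subgroupMap_surjective K).bijective_of_nat_card_le (by
      rw [hK, map_closure_list, hb, hp])
  exact ⟨(MulEquiv.subgroupCongr (map_closure_list _ ps).symm).trans
    (((MulEquiv.ofBijective _ h1).symm.trans (MulEquiv.ofBijective _ h2)).trans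
      (MulEquiv.subgroupCongr (map_closure_list _ ps)))⟩

theorem factorization_two {c k m : ℕ} (h : c = 2 ^ k * m) (hm : Odd m) : c.factorization 2 = k := by
  subst h
  rw [Nat.factorization_mul (by positivity) (Nat.pos_iff_ne_zero.1 hm.pos), Finsupp.add_apply,
    Nat.prime_two.factorization_pow, Finsupp.single_eq_same,
    Nat.factorization_eq_zero_of_not_dvd (fun h => (Nat.not_even_iff_odd.2 hm) (even_iff_two_dvd.2 h))]
  rfl

/-- A subgroup of full 2-power order is isomorphic to every Sylow 2-subgroup. -/
theorem nonempty_sylow_equiv [Finite G] {k m : ℕ} (hG : Nat.card G = 2 ^ k * m) (hm : Odd m)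
    (P : Sylow 2 G) (H : Subgroup G) (hH : Nat.card H = 2 ^ k) :
    Nonempty (↥(P : Subgroup G) ≃* H) := by
  refine ⟨(P.equiv (Sylow.ofCard H ?_)).trans (MulEquiv.subgroupCongr (Sylow.coe_ofCard H _))⟩
  rw [factorization_two hG hm]
  exact hH

end Cfsg.Agent.Lib.SylowTwoPairs
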