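import Mathlib

/-!
Matched generators of Sylow 2-subgroups.
-/

set_option autoImplicit false

namespace Cfsg.Agent.Lib.SylowTwoPairs

/-- Permutations. -/
def permsA : Fin 3 → Equiv.Perm (Fin 8) :=
  ![Equiv.swap (0 : Fin 8) 6 * Equiv.swap (1 : Fin 8) 7 * Equiv.swap (2 : Fin 8) 4 * Equiv.swap (3 : Fin 8) 5,
    Equiv.swap (0 : Fin 8) 4 * Equiv.swap (1 : Fin 8) 5 * Equiv.swap (2 : Fin 8) 7 * Equiv.swap (3 : Fin 8) 6,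
    Equiv.swap (0 : Fin 8) 6 * Equiv.swap (1 : Fin 8) 7 * Equiv.swap (2 : Fin 8) 4 * Equiv.swap (3 : Fin 8) 5 * Equiv.swap (4 : Fin 8) 7 * Equiv.swap (5 : Fin 8) 6]

/-- Matrix entries. -/
def matsA : Fin 3 → Fin 4 → Fin 4 → ℕ :=
  ![![![0, 1, 0, 2], ![2, 2, 2, 1], ![1, 0, 0, 1], ![0, 2, 2, 1]],
    ![![0, 1, 0, 0], ![2, 0, 0, 0], ![1, 0, 0, 1], ![0, 2, 2, 0]],
    ![![0, 2, 0, 1], ![2, 1, 2, 2], ![0, 2, 2, 0], ![0, 0, 2, 0]]]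

/-- Matrix entries. -/
def matsAInv : Fin 3 → Fin 4 → Fin 4 → ℕ :=
  ![![![0, 1, 0, 2], ![2, 2, 2, 1], ![1, 0, 0, 1], ![0, 2, 2, 1]],
    ![![0, 1, 0, 0], ![2, 0, 0, 0], ![1, 0, 0, 1], ![0, 2, 2, 0]],
    ![![2, 2, 0, 1], ![0, 0, 2, 1], ![0, 0, 0, 2], ![1, 0, 2, 1]]]

/-- Permutations. -/
def permsS : Fin 3 → Equiv.Perm (Fin 8) :=
  ![Equiv.swap (2 : Fin 8) 3 * Equiv.swap (4 : Fin 8) 7 * Equiv.swap (5 : Fin 8) 6,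
    Equiv.swap (0 : Fin 8) 6 * Equiv.swap (1 : Fin 8) 7 * Equiv.swap (2 : Fin 8) 5 * Equiv.swap (3 : Fin 8) 4 * Equiv.swap (4 : Fin 8) 7 * Equiv.swap (5 : Fin 8) 6,
    Equiv.swap (0 : Fin 8) 6 * Equiv.swap (1 : Fin 8) 7 * Equiv.swap (2 : Fin 8) 4 * Equiv.swap (3 : Fin 8) 5 * Equiv.swap (4 : Fin 8) 7 * Equiv.swap (5 : Fin 8) 6 * Equiv.swap (6 : Fin 8) 7]

/-- Matrix entries. -/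
def matsS : Fin 3 → Fin 6 → Fin 6 → ℕ :=
  ![![![1, 0, 0, 1, 0, 0], ![1, 1, 1, 0, 1, 1], ![0, 0, 1, 1, 0, 0], ![0, 0, 0, 1, 0, 0], ![0, 0, 0, 1, 0, 1], ![0, 0, 0, 1, 1, 0]],
    ![![0, 1, 0, 1, 1, 1], ![0, 0, 1, 0, 0, 0], ![0, 1, 1, 1, 0, 1], ![1, 1, 1, 0, 0, 1], ![0, 1, 1, 0, 1, 0], ![0, 0, 0, 1, 1, 0]],
    ![![1, 0, 0, 1, 0, 0], ![1, 1, 1, 0, 1, 1], ![1, 0, 1, 1, 0, 1], ![1, 1, 1, 0, 1, 0], ![0, 0, 0, 1, 0, 1], ![0, 1, 1, 0, 0, 1]]]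

/-- Matrix entries. -/
def matsSInv : Fin 3 → Fin 6 → Fin 6 → ℕ :=
  ![![![1, 0, 0, 1, 0, 0], ![1, 1, 1, 0, 1, 1], ![0, 0, 1, 1, 0, 0], ![0, 0, 0, 1, 0, 0], ![0, 0, 0, 1, 0, 1], ![0, 0, 0, 1, 1, 0]],
    ![![1, 1, 0, 1, 0, 1], ![1, 0, 1, 0, 1, 0], ![0, 1, 0, 0, 0, 0], ![1, 1, 1, 0, 0, 1], ![1, 1, 1, 0, 0, 0], ![0, 0, 1, 0, 1, 1]],
    ![![1, 1, 0, 1, 1, 0], ![1, 0, 1, 0, 0, 1], ![1, 1, 1, 1, 0, 0], ![0, 1, 0, 1, 1, 0], ![1, 0, 0, 1, 1, 1], ![0, 1, 0, 1, 0, 0]]]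

end Cfsg.Agent.Lib.SylowTwoPairs
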