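import Cfsg.Agent.Lib.Classical.Standard
import Cfsg.Agent.Lib.SylowTwoPairs.Basic
import Cfsg.Agent.Lib.SylowTwoPairs.Gens
import Cfsg.Agent.Lib.SylowTwoPairs.Cert

/-!
A Sylow 2-subgroup of `S_8` inside `O_6^-(2)`.
-/

set_option autoImplicit false

namespace Cfsg.Agent.Lib.SylowTwoPairs

open Cfsg.Agent.Lib.Compute

/-- The coordinates. -/
abbrev I6 := (Fin 2 ⊕ Fin 2) ⊕ Fin 2

/-- The quadratic form. -/
abbrev Q6 : (I6 → ZMod 2) → ZMod 2 := Cfsg.quadFormMinus 2 (ZMod 2) 1 1

/-- The position of a coordinate. -/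
def pos6 : I6 → Fin 6 := Sum.elim (Sum.elim ![0, 1] ![2, 3]) ![4, 5]

/-- The generators as matrices. -/
def oMat (i : Fin 3) : Matrix I6 I6 (ZMod 2) := Matrix.of fun a b => (matsS i (pos6 a) (pos6 b) : ZMod 2)

/-- The inverse matrices. -/
def oMatInv (i : Fin 3) : Matrix I6 I6 (ZMod 2) :=
  Matrix.of fun a b => (matsSInv i (pos6 a) (pos6 b) : ZMod 2)

theorem oMat_mul : ∀ i, oMat i * oMatInv i = 1 ∧ oMatInv i * oMat i = 1 := by decide +kernel

theorem oMat_form : ∀ i, ∀ v : I6 → ZMod 2, Q6 (Matrix.mulVec (oMat i) v) = Q6 v := by decide +kernel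

/-- The generators in the isometry group. -/
def oGen (i : Fin 3) : Cfsg.isometryGroup (ZMod 2) Q6 :=
  ⟨⟨oMat i, oMatInv i, (oMat_mul i).1, (oMat_mul i).2⟩, fun v _ => oMat_form i v⟩

/-- The action on vectors. -/
def vecPerm : Cfsg.isometryGroup (ZMod 2) Q6 →* Equiv.Perm (I6 → ZMod 2) where
  toFun g :=
    { toFun := fun v => Matrix.mulVec (g.1.val) v
      invFun := fun v => Matrix.mulVec (g.1⁻¹).val v
      left_inv := fun v => by simp [Matrix.mulVec_mulVec]
      right_inv := fun v => by simp [Matrix.mulVec_mulVec] }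
  map_one' := Equiv.ext fun v => by simp
  map_mul' g h := Equiv.ext fun v => by simp [Matrix.mulVec_mulVec]

theorem vecPerm_injective : Function.Injective vecPerm := fun g h e =>
  Subtype.ext (Units.ext (Matrix.ext_of_mulVec_single fun i => Equiv.ext_iff.1 e (Pi.single i 1)))

/-- The code of a vector. -/
def vecCode (v : I6 → ZMod 2) : Fin 64 :=
  Fin.ofNat 64 ((v (.inl (.inl 0))).val + (v (.inl (.inl 1))).val * 2 + (v (.inl (.inr 0))).val * 4 +
    (v (.inl (.inr 1))).val * 8 + (v (.inr 0)).val * 16 + (v (.inr 1)).val * 32)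

/-- The vector with a given code. -/
def vecOf (c : Fin 64) : I6 → ZMod 2 := fun i => ((c.val / 2 ^ (pos6 i).val % 2 : ℕ) : ZMod 2)

theorem vecOf_code : ∀ v, vecOf (vecCode v) = v := by decide +kernel

theorem vecCode_of : ∀ c, vecCode (vecOf c) = c := by decide +kernel

/-- The numbering of vectors. -/
def vecEquiv : (I6 → ZMod 2) ≃ Fin 64 := ⟨vecCode, vecOf, vecOf_code, vecCode_of⟩

/-- The matched generators. -/
def pairsS : List (Equiv.Perm (Fin 8) × Equiv.Perm (I6 → ZMod 2)) :=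
  [(permsS 0, vecPerm (oGen 0)), (permsS 1, vecPerm (oGen 1)), (permsS 2, vecPerm (oGen 2))]

theorem gens_Ssrc : gensList (permCoding 4 (Equiv.refl (Fin 8)) (by norm_num))
    (pairsS.map (MonoidHom.fst _ _)) = gensSsrc := by decide +kernel

theorem gens_Stgt : gensList (permCoding 8 vecEquiv (by norm_num))
    (pairsS.map (MonoidHom.snd _ _)) = gensStgt := by decide +kernel

theorem gens_Sboth :
    gensList (permCoding 8 (((Equiv.refl (Fin 8)).sumCongr vecEquiv).trans finSumFinEquiv) (by norm_num))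
    (pairsS.map (Equiv.Perm.sumCongrHom (Fin 8) (I6 → ZMod 2))) = gensSboth := by decide +kernel

theorem iso_S : Nonempty (Subgroup.closure {g | g ∈ pairsS.map (MonoidHom.fst _ _)} ≃*
    Subgroup.closure {g | g ∈ pairsS.map (MonoidHom.snd _ _)}) :=
  nonempty_equiv_of_pairs pairsS (N := 128)
    ((card_closure_map Equiv.Perm.sumCongrHom_injective pairsS).symm.trans
      (card_closure _ gens_Sboth (L := chainSboth) (by decide +kernel) (by decide +kernel)))
    (card_closure _ gens_Ssrc (L := chainSsrc) (by decide +kernel) (by decide +kernel))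
    (card_closure _ gens_Stgt (L := chainStgt) (by decide +kernel) (by decide +kernel))

theorem natCard_o6 : Nat.card (Cfsg.isometryGroup (ZMod 2) Q6) = 2 ^ 7 * 405 := by
  have hab : ∀ z₁ z₂ : ZMod 2, z₁ ^ 2 + 1 * z₁ * z₂ + 1 * z₂ ^ 2 = 0 → z₁ = 0 ∧ z₂ = 0 := by
    decide +kernel
  rw [Lib.Classical.natCard_isometryGroup_minus hab 2, Nat.card_zmod]
  norm_num [Finset.prod_range_succ]

theorem sylow_sym_o6 (P : Sylow 2 (Equiv.Perm (Fin 8))) (Q : Sylow 2 (Cfsg.isometryGroup (ZMod 2) Q6)) :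
    Nonempty (↥(P : Subgroup (Equiv.Perm (Fin 8))) ≃*
      ↥(Q : Subgroup (Cfsg.isometryGroup (ZMod 2) Q6))) := by
  obtain ⟨f⟩ := iso_S
  let H := Subgroup.closure {g | g ∈ pairsS.map (MonoidHom.fst _ _)}
  let K := Subgroup.closure {g | g ∈ [oGen 0, oGen 1, oGen 2]}
  have eK : K.map vecPerm = Subgroup.closure {g | g ∈ pairsS.map (MonoidHom.snd _ _)} :=
    map_closure_list _ _
  let iK := (K.equivMapOfInjective _ vecPerm_injective).trans (MulEquiv.subgroupCongr eK)
  have cH : Nat.card H = 2 ^ 7 :=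
    card_closure _ gens_Ssrc (L := chainSsrc) (by decide +kernel) (by decide +kernel)
  have cK : Nat.card K = 2 ^ 7 := (Nat.card_congr iK.toEquiv).trans
    (card_closure _ gens_Stgt (L := chainStgt) (by decide +kernel) (by decide +kernel))
  have hS : Nat.card (Equiv.Perm (Fin 8)) = 2 ^ 7 * 315 := by
    rw [Nat.card_perm, Nat.card_fin]; decide
  obtain ⟨a⟩ := nonempty_sylow_equiv hS ⟨157, rfl⟩ P H cH
  obtain ⟨b⟩ := nonempty_sylow_equiv natCard_o6 ⟨202, rfl⟩ Q K cK
  exact ⟨(a.trans f).trans (b.trans iK).symm⟩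

end Cfsg.Agent.Lib.SylowTwoPairs
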