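import Cfsg.Agent.Lib.UFourTwo.Iso
import Cfsg.Agent.Lib.SylowTwoPairs.Basic
import Cfsg.Agent.Lib.SylowTwoPairs.Gens
import Cfsg.Agent.Lib.SylowTwoPairs.Cert

/-!
A Sylow 2-subgroup of `A_8` inside `PSp_4(3)`.
-/

set_option autoImplicit false

namespace Cfsg.Agent.Lib.SylowTwoPairs

open Cfsg.Agent.Lib.Compute Cfsg.Agent.Lib.UFourTwo

/-- The position of a symplectic coordinate. -/
def pos4 : J4 → Fin 4 := Sum.elim ![0, 1] ![2, 3]

/-- The symplectic generators. -/
def spMatGen (i : Fin 3) : Matrix J4 J4 (ZMod 3) :=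
  Matrix.of fun a b => (matsA i (pos4 a) (pos4 b) : ZMod 3)

theorem spMatGen_mem (i : Fin 3) : spMatGen i ∈ Matrix.symplecticGroup (Fin 2) (ZMod 3) := by
  rw [SymplecticGroup.mem_iff]
  revert i
  decide +kernel

/-- The symplectic generators as group elements. -/
def spGen (i : Fin 3) : Matrix.symplecticGroup (Fin 2) (ZMod 3) := ⟨spMatGen i, spMatGen_mem i⟩

/-- The even permutations. -/
def altGen (i : Fin 3) : alternatingGroup (Fin 8) :=
  ⟨permsA i, Equiv.Perm.mem_alternatingGroup.2 (by revert i; decide +kernel)⟩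

/-- The matched generators. -/
def pairsA : List (Equiv.Perm (Fin 8) × Equiv.Perm (Fin 40)) :=
  [(permsA 0, spPerm (spGen 0)), (permsA 1, spPerm (spGen 1)), (permsA 2, spPerm (spGen 2))]

theorem gens_Asrc : gensList (permCoding 4 (Equiv.refl (Fin 8)) (by norm_num))
    (pairsA.map (MonoidHom.fst _ _)) = gensAsrc := by decide +kernel

theorem gens_Atgt : gensList (permCoding 8 (Equiv.refl (Fin 40)) (by norm_num))
    (pairsA.map (MonoidHom.snd _ _)) = gensAtgt := by decide +kernel

theorem gens_Aboth : gensList (permCoding 8 (finSumFinEquiv (m := 8) (n := 40)) (by norm_num))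
    (pairsA.map (Equiv.Perm.sumCongrHom (Fin 8) (Fin 40))) = gensAboth := by decide +kernel

theorem iso_A : Nonempty (Subgroup.closure {g | g ∈ pairsA.map (MonoidHom.fst _ _)} ≃*
    Subgroup.closure {g | g ∈ pairsA.map (MonoidHom.snd _ _)}) :=
  nonempty_equiv_of_pairs pairsA (N := 64)
    ((card_closure_map Equiv.Perm.sumCongrHom_injective pairsA).symm.trans
      (card_closure _ gens_Aboth (L := chainAboth) (by decide +kernel) (by decide +kernel)))
    (card_closure _ gens_Asrc (L := chainAsrc) (by decide +kernel) (by decide +kernel))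
    (card_closure _ gens_Atgt (L := chainAtgt) (by decide +kernel) (by decide +kernel))

theorem natCard_psp : Nat.card (Cfsg.PSp 2 (ZMod 3)) = 25920 := by
  have h1 := Cfsg.Agent.Lib.Classical.natCard_symplecticGroup (F := ZMod 3) 2
  have h2 := Cfsg.Agent.Lib.Classical.natCard_center_symplecticGroup (F := ZMod 3) 2 (by norm_num)
  have h3 := Subgroup.card_eq_card_quotient_mul_card_subgroup
    (Subgroup.center (Matrix.symplecticGroup (Fin 2) (ZMod 3)))
  rw [h1, h2, ZMod.card, Nat.card_zmod] at h3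
  norm_num [Finset.prod_range_succ] at h3
  show Nat.card (Matrix.symplecticGroup (Fin 2) (ZMod 3) ⧸ _) = 25920
  omega

theorem sylow_alt_psp (P : Sylow 2 ↥(alternatingGroup (Fin 8))) (Q : Sylow 2 (Cfsg.PSp 2 (ZMod 3))) :
    Nonempty (↥(P : Subgroup ↥(alternatingGroup (Fin 8))) ≃*
      ↥(Q : Subgroup (Cfsg.PSp 2 (ZMod 3)))) := by
  obtain ⟨f⟩ := iso_A
  let H := Subgroup.closure {g | g ∈ [altGen 0, altGen 1, altGen 2]}
  let K := Subgroup.closure {g : Cfsg.PSp 2 (ZMod 3) | g ∈
    [QuotientGroup.mk (spGen 0), QuotientGroup.mk (spGen 1), QuotientGroup.mk (spGen 2)]}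
  have eH : H.map (alternatingGroup (Fin 8)).subtype =
      Subgroup.closure {g | g ∈ pairsA.map (MonoidHom.fst _ _)} := map_closure_list _ _
  have eK : K.map spPermBar = Subgroup.closure {g | g ∈ pairsA.map (MonoidHom.snd _ _)} :=
    map_closure_list _ _
  let iH := (H.equivMapOfInjective _ (Subgroup.subtype_injective _)).trans (MulEquiv.subgroupCongr eH)
  let iK := (K.equivMapOfInjective _ spPermBar_injective).trans (MulEquiv.subgroupCongr eK)
  have cH : Nat.card H = 2 ^ 6 := (Nat.card_congr iH.toEquiv).trans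
    (card_closure _ gens_Asrc (L := chainAsrc) (by decide +kernel) (by decide +kernel))
  have cK : Nat.card K = 2 ^ 6 := (Nat.card_congr iK.toEquiv).trans
    (card_closure _ gens_Atgt (L := chainAtgt) (by decide +kernel) (by decide +kernel))
  have hA : Nat.card ↥(alternatingGroup (Fin 8)) = 2 ^ 6 * 315 := by
    rw [nat_card_alternatingGroup, Nat.card_fin]; decide
  obtain ⟨a⟩ := nonempty_sylow_equiv hA ⟨157, rfl⟩ P H cH
  obtain ⟨b⟩ := nonempty_sylow_equiv (k := 6) (m := 405) natCard_psp ⟨202, rfl⟩ Q K cK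
  exact ⟨((a.trans iH).trans f).trans (b.trans iK).symm⟩

end Cfsg.Agent.Lib.SylowTwoPairs
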